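import Groth.Agent.EGAProj74.GrT.GradedBasics
import Groth.Prelude.Def_GrTwist
import Mathlib.RingTheory.Flat.EquationalCriterion

/-! Modules of homogeneous fractions of a graded algebra with flat high degrees are flat. -/

set_option autoImplicit false
set_option linter.style.haveILetI false

noncomputable section

universe u

open Module

namespace Groth.Agent.Div89.ProjFlat

open Groth.Agent.EGAProj74.GrT

variable {A σ : Type u} [CommRing A] [SetLike σ A] [AddSubgroupClass σ A] (𝒜 : ℕ → σ) [GradedRing 𝒜]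

lemma mem_of_mem_span {R : Type u} [CommRing R] [Algebra R A] (h0 : ∀ r : R, algebraMap R A r ∈ 𝒜 0) {d : ℕ}
    {a : A} (ha : a ∈ Submodule.span R (𝒜 d : Set A)) : a ∈ 𝒜 d := by
  induction ha using Submodule.span_induction with
  | mem a ha => exact ha
  | zero => exact zero_mem _
  | add a b _ _ h h' => exact add_mem h h'
  | smul r a _ h =>
    rw [Algebra.smul_def]
    simpa using SetLike.mul_mem_graded (h0 r) h

theorem flat_of_fractions {R : Type u} [CommRing R] [Algebra R A] (h0 : ∀ r : R, algebraMap R A r ∈ 𝒜 0)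
    (d₀ : ℕ) (hflat : ∀ d, d₀ ≤ d → Module.Flat R ↥(Submodule.span R (𝒜 d : Set A)))
    (x : ProjectiveSpectrum 𝒜) (n : ℤ) {M : Type u} [AddCommGroup M] [Module R M]
    (Φ : M →+ GrTwist.Loc 𝒜 x) (hinj : Function.Injective Φ)
    (hsmul : ∀ (r : R) (m : M), Φ (r • m) = algebraMap A (GrTwist.Loc 𝒜 x) (algebraMap R A r) * Φ m)
    (himg : ∀ m : M, ∃ (i j : ℕ) (a : 𝒜 i) (s : 𝒜 j) (hs : (s : A) ∉ x.asHomogeneousIdeal),
      (i : ℤ) = j + n ∧ Φ m = Localization.mk (a : A) ⟨(s : A), hs⟩)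
    (hsurj : ∀ (i j : ℕ) (a : 𝒜 i) (s : 𝒜 j) (hs : (s : A) ∉ x.asHomogeneousIdeal),
      (i : ℤ) = j + n → ∃ m : M, Φ m = Localization.mk (a : A) ⟨(s : A), hs⟩) :
    Module.Flat R M := by
  classical
  refine Module.Flat.of_forall_isTrivialRelation fun {l f m} hfm => ?_
  obtain ⟨δ, g, hδ, hg, hgx⟩ := exists_pos_notMem 𝒜 x
  choose i j a s hs hij hΦ using fun k => himg (m k)
  let P := x.asHomogeneousIdeal.toIdeal.primeCompl
  -- a common denominator of large degree
  let k₀ : ℕ := d₀ + n.natAbs + 1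
  let J : ℕ := ∑ k, j k + k₀ * δ
  let S : A := (∏ k, (s k : A)) * g ^ k₀
  have hS : S ∈ 𝒜 J := SetLike.mul_mem_graded (SetLike.prod_mem_graded 𝒜 _ _ fun k _ => (s k).2)
    (by simpa using SetLike.pow_mem_graded k₀ hg)
  have hSx : S ∉ x.asHomogeneousIdeal := (P.mul_mem (Submonoid.prod_mem _ fun k _ => hs k) (P.pow_mem hgx k₀) : S ∈ P)
  have hk₀ : (k₀ : ℤ) ≤ (k₀ * δ : ℕ) := by exact_mod_cast Nat.le_mul_of_pos_right k₀ hδ
  let I : ℕ := ((J : ℤ) + n).toNat
  have hI : (I : ℤ) = J + n := Int.toNat_of_nonneg (by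
    have : (k₀ : ℤ) ≤ J := hk₀.trans (by exact_mod_cast Nat.le_add_left _ _)
    omega)
  have hId : d₀ ≤ I := by
    have : (k₀ : ℤ) ≤ J := hk₀.trans (by exact_mod_cast Nat.le_add_left _ _)
    omega
  let b : Fin l → A := fun k => (a k : A) * ((∏ k' ∈ Finset.univ.erase k, (s k' : A)) * g ^ k₀)
  have hb : ∀ k, b k ∈ 𝒜 I := fun k => by
    have h1 : i k + (∑ k' ∈ Finset.univ.erase k, j k' + k₀ * δ) = I := by
      have := Finset.add_sum_erase Finset.univ j (Finset.mem_univ k)
      have := hij k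
      omega
    rw [← h1]
    exact SetLike.mul_mem_graded (a k).2 (SetLike.mul_mem_graded
      (SetLike.prod_mem_graded 𝒜 _ _ fun k' _ => (s k').2) (by simpa using SetLike.pow_mem_graded k₀ hg))
  have hΦb : ∀ k, Φ (m k) = Localization.mk (b k) ⟨S, hSx⟩ := fun k => by
    rw [hΦ k, Localization.mk_eq_mk_iff, Localization.r_iff_exists]
    refine ⟨1, ?_⟩
    show (1 : A) * (S * (a k : A)) = 1 * ((s k : A) * b k)
    simp only [S, b]
    rw [← Finset.mul_prod_erase Finset.univ (fun k' => (s k' : A)) (Finset.mem_univ k)]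
    ring
  -- the relation holds in the algebra after a homogeneous multiplication
  let z : A := ∑ k, algebraMap R A (f k) * b k
  have hz : z ∈ 𝒜 I := sum_mem fun k _ => by simpa using SetLike.mul_mem_graded (h0 (f k)) (hb k)
  have hz0 : Localization.mk z ⟨S, hSx⟩ = (0 : GrTwist.Loc 𝒜 x) := by
    have h := congrArg Φ hfm
    simp only [map_sum, map_zero, hsmul, hΦb] at h
    rw [← h, Localization.mk_eq_mk', IsLocalization.mk'_eq_mul_mk'_one, map_sum, Finset.sum_mul]
    refine Finset.sum_congr rfl fun k _ => ?_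
    rw [map_mul, mul_assoc, ← IsLocalization.mk'_eq_mul_mk'_one]
  rw [Localization.mk_eq_mk', IsLocalization.mk'_eq_zero_iff] at hz0
  obtain ⟨⟨t, ht⟩, htz⟩ := hz0
  obtain ⟨e, c, hc, hcx, hcz⟩ := exists_homogeneous_killer 𝒜 𝒜 hz x ht (show t • z = 0 from htz)
  haveI := hflat (e + I) (hId.trans (Nat.le_add_left _ _))
  let N := Submodule.span R (𝒜 (e + I) : Set A)
  let w : Fin l → N := fun k => ⟨c * b k, Submodule.subset_span (SetLike.mul_mem_graded hc (hb k))⟩
  have hw : ∑ k, f k • w k = 0 := by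
    refine Subtype.ext ?_
    rw [Submodule.coe_sum, Submodule.coe_zero]
    refine Eq.trans ?_ (hcz : c * z = 0)
    show _ = c * z
    rw [Finset.mul_sum]
    refine Finset.sum_congr rfl fun k _ => ?_
    rw [Submodule.coe_smul, Algebra.smul_def]
    show algebraMap R A (f k) * (c * b k) = c * (algebraMap R A (f k) * b k)
    ring
  obtain ⟨q, C, y, hwy, hC⟩ := Module.Flat.isTrivialRelation_of_sum_smul_eq_zero hw
  have hden : c * S ∈ 𝒜 (e + J) := SetLike.mul_mem_graded hc hS
  have hdenx : c * S ∉ x.asHomogeneousIdeal := (P.mul_mem hcx hSx : c * S ∈ P)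
  choose y' hy' using fun p => hsurj (e + I) (e + J) ⟨(y p : A), mem_of_mem_span 𝒜 h0 (y p).2⟩ ⟨c * S, hden⟩ hdenx
    (by omega)
  refine ⟨q, C, y', fun k => hinj ?_, hC⟩
  simp only [map_sum, hsmul, hy', hΦb]
  have hsum : c * b k = ∑ p, algebraMap R A (C k p) * (y p : A) := by
    have h := congrArg Subtype.val (hwy k)
    simpa [w, N, Submodule.coe_sum, Algebra.smul_def] using h
  calc Localization.mk (b k) ⟨S, hSx⟩ = Localization.mk (c * b k) ⟨c * S, hdenx⟩ := by
        rw [Localization.mk_eq_mk_iff, Localization.r_iff_exists]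
        refine ⟨1, ?_⟩
        show (1 : A) * (c * S * b k) = 1 * (S * (c * b k))
        ring
    _ = _ := by
        rw [hsum, Localization.mk_eq_mk', IsLocalization.mk'_eq_mul_mk'_one, map_sum, Finset.sum_mul]
        refine Finset.sum_congr rfl fun p _ => ?_
        rw [map_mul, mul_assoc, ← IsLocalization.mk'_eq_mul_mk'_one]

end Groth.Agent.Div89.ProjFlat
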