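import Groth.Agent.Div89.ProjFlat.Frac
import Groth.Agent.Div89.Stalk
import Groth.Agent.QC70.Stalk
import Groth.Agent.EGAProj74.RelEmbVal
import Groth.Agent.EGAProj74.RelTwistTriv
import Mathlib.RingTheory.Flat.Localization

/-! Flatness of the relative homogeneous spectrum and of its twisting modules. -/

set_option autoImplicit false
set_option linter.style.haveILetI false
set_option backward.isDefEq.respectTransparency.types false

noncomputable section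

universe u

open CategoryTheory AlgebraicGeometry TopologicalSpace Opposite
open Groth.Agent.QC70

namespace Groth.Agent.Div89.ProjFlat

section Twist

variable {σ A : Type u} [CommRing A] [SetLike σ A] [AddSubgroupClass σ A] {𝒜 : ℕ → σ} [GradedRing 𝒜] {n : ℤ}

lemma val_smul {V : (Proj 𝒜).Opens} (c : Γ(Proj 𝒜, V)) (t : Γ(GrTwist.twist 𝒜 n, V)) (y : V) :
    GrTwist.val (c • t) y = (c.1 y).val * GrTwist.val t y :=
  GrTwist.coe_smul_val n y.1 (c.1 y) _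

lemma val_add {V : (Proj 𝒜).Opens} (t t' : Γ(GrTwist.twist 𝒜 n, V)) (y : V) :
    GrTwist.val (t + t') y = GrTwist.val t y + GrTwist.val t' y := rfl

/-- The value of a section is a fraction of degree `n`. -/
lemma val_eq_frac {V : (Proj 𝒜).Opens} (t : Γ(GrTwist.twist 𝒜 n, V)) (y : V) :
    ∃ (i j : ℕ) (a : 𝒜 i) (s : 𝒜 j) (hs : (s : A) ∉ y.1.asHomogeneousIdeal),
      (i : ℤ) = j + n ∧ GrTwist.val t y = Localization.mk (a : A) ⟨(s : A), hs⟩ := by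
  obtain ⟨W, hyW, iW, i, j, a, s, nin, h, w⟩ := (t : GrTwist.sectN (𝒜 := 𝒜) n (op V)).2 y
  have hw : GrTwist.val t y = Localization.mk (a : A) ⟨(s : A), nin ⟨y.1, hyW⟩⟩ := w ⟨y.1, hyW⟩
  rcases h with h | h
  · exact ⟨i, j, a, s, nin ⟨y.1, hyW⟩, h, hw⟩
  · obtain ⟨d, f, hd, hf, hfx⟩ := EGAProj74.GrT.exists_pos_notMem 𝒜 y.1
    let k := n.natAbs + 1
    have hk : (n.natAbs : ℤ) + 1 ≤ ((k * d : ℕ) : ℤ) := by exact_mod_cast Nat.le_mul_of_pos_right k hd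
    have hfk : f ^ k ∉ y.1.asHomogeneousIdeal := fun h => hfx (y.1.isPrime.mem_of_pow_mem k h)
    refine ⟨(((k * d : ℕ) : ℤ) + n).toNat, k * d, 0, ⟨f ^ k, by simpa using SetLike.pow_mem_graded k hf⟩, hfk,
      Int.toNat_of_nonneg (by omega), ?_⟩
    rw [hw, h, ZeroMemClass.coe_zero, Localization.mk_zero, Localization.mk_zero]

/-- A section with zero value at a point vanishes near it. -/
lemma exists_zero_nhd {V : (Proj 𝒜).Opens} (t : Γ(GrTwist.twist 𝒜 n, V)) (y : V) (h : GrTwist.val t y = 0) :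
    ∃ W : (Proj 𝒜).Opens, y.1 ∈ W ∧ W ≤ V ∧ ∀ z : V, z.1 ∈ W → GrTwist.val t z = 0 := by
  obtain ⟨W, hyW, iW, i, j, a, s, nin, -, w⟩ := (t : GrTwist.sectN (𝒜 := 𝒜) n (op V)).2 y
  have hw : ∀ z : W, GrTwist.val t ⟨z.1, iW.le z.2⟩ = Localization.mk (a : A) ⟨(s : A), nin z⟩ := fun z => w z
  have h0 := (hw ⟨y.1, hyW⟩).symm.trans h
  rw [Localization.mk_eq_mk', IsLocalization.mk'_eq_zero_iff] at h0
  obtain ⟨⟨c, hc⟩, hca⟩ := h0
  refine ⟨W ⊓ ProjectiveSpectrum.basicOpen 𝒜 c, ⟨hyW, hc⟩, inf_le_left.trans iW.le, fun z hz => ?_⟩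
  refine (hw ⟨z.1, hz.1⟩).trans ?_
  rw [Localization.mk_eq_mk', IsLocalization.mk'_eq_zero_iff]
  exact ⟨⟨c, hz.2⟩, hca⟩

/-- A fraction of degree `n` as a section. -/
lemma exists_frac_section {i j : ℕ} (a : 𝒜 i) (s : 𝒜 j) (h : (i : ℤ) = j + n) {V : (Proj 𝒜).Opens}
    (hV : ∀ z : V, (s : A) ∉ z.1.asHomogeneousIdeal) :
    ∃ t : Γ(GrTwist.twist 𝒜 n, V), ∀ z : V, GrTwist.val t z = Localization.mk (a : A) ⟨(s : A), hV z⟩ :=
  ⟨(⟨fun z => ⟨Localization.mk (a : A) ⟨(s : A), hV z⟩, Submodule.subset_span ⟨i, j, a, s, hV z, h, rfl⟩⟩,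
      fun z => ⟨V, z.2, 𝟙 _, i, j, a, s, hV, Or.inl h, fun _ => rfl⟩⟩ : GrTwist.sectN (𝒜 := 𝒜) n (op V)),
    fun _ => rfl⟩

lemma sect_eq_zero {V : (Proj 𝒜).Opens} (t : Γ(GrTwist.twist 𝒜 n, V)) (h : ∀ z : V, GrTwist.val t z = 0) :
    t = 0 :=
  Subtype.ext (funext fun z => Subtype.ext (h z))

end Twist

variable {S P : Scheme.{u}} {𝒜 : RelProj.QCGrAlg S} {p : P ⟶ S}
  {chart : ∀ (U : S.Opens) (hU : IsAffineOpen U), (((p ⁻¹ᵁ U : P.Opens) : Scheme.{u}) ≅ Proj (𝒜.deg U hU))}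

lemma emb_mem (U : S.Opens) (hU : IsAffineOpen U) (y : Proj (𝒜.deg U hU)) :
    RelProj.emb p chart U hU y ∈ p ⁻¹ᵁ U := by
  rw [← EGAProj74.opensRange_emb (chart := chart) U hU]
  exact ⟨y, rfl⟩

/-- The function of the base in the local ring of the relative spectrum. -/
def baseGerm (p : P ⟶ S) (U : S.Opens) (z : P) (hz : z ∈ p ⁻¹ᵁ U) : Γ(S, U) →+* P.presheaf.stalk z :=
  (P.presheaf.germ (p ⁻¹ᵁ U) z hz).hom.comp (p.app U).hom

lemma baseGerm_eq (U : S.Opens) (z : P) (hz : z ∈ p ⁻¹ᵁ U) (r : Γ(S, U)) :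
    baseGerm p U z hz r = p.stalkMap z (S.presheaf.germ U (p z) hz r) :=
  (Scheme.Hom.germ_stalkMap_apply p U z hz r).symm

lemma emb_app_val (hP : RelProj.IsRelProj 𝒜 p chart) (U : S.Opens) (hU : IsAffineOpen U) (r : Γ(S, U))
    {W : P.Opens} (hW : W ≤ p ⁻¹ᵁ U) (y : Proj (𝒜.deg U hU)) (hy : y ∈ RelProj.emb p chart U hU ⁻¹ᵁ W) :
    (((RelProj.emb p chart U hU).app W (resO P hW (p.app U r))).1 ⟨y, hy⟩).val =
      Localization.mk ((𝒜.str.app (op U)).hom r) 1 := by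
  have h := congr($((RelProj.emb p chart U hU).naturality (homOfLE hW).op).hom (p.app U r))
  refine Eq.trans (congrArg (fun q : (ProjectiveSpectrum.Proj.structureSheaf (𝒜.deg U hU)).1.obj
    (op (RelProj.emb p chart U hU ⁻¹ᵁ W)) => (q.1 ⟨y, hy⟩).val) h) ?_
  exact EGAProj74.emb_app_p_val hP U hU r y (hW hy)

set_option maxHeartbeats 800000 in
theorem flat_stalk_twist (hP : RelProj.IsRelProj 𝒜 p chart) (U : S.Opens) (hU : IsAffineOpen U) (d₀ : ℕ)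
    (hflat : ∀ d, d₀ ≤ d →
      letI := (𝒜.str.app (op U)).hom.toAlgebra
      Module.Flat Γ(S, U) ↥(Submodule.span Γ(S, U) (𝒜.deg U hU d : Set (𝒜.presheaf.obj (op U)))))
    {n : ℤ} {L : P.Modules}
    {lam : ∀ (U : S.Opens) (hU : IsAffineOpen U),
      L ⟶ (Scheme.Modules.pushforward (RelProj.emb p chart U hU)).obj (GrTwist.twist (𝒜.deg U hU) n)}
    (hL : RelProj.IsRelTwist 𝒜 p chart n L lam) (y : Proj (𝒜.deg U hU)) :
    FlatMod.IsFlatOverAt p L (RelProj.emb p chart U hU y) := by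
  classical
  let e := RelProj.emb p chart U hU
  let z := e y
  have hz : z ∈ p ⁻¹ᵁ U := emb_mem U hU y
  let N := GrTwist.twist (𝒜.deg U hU) n
  let φ := lam U hU
  let v (W : P.Opens) (hy : y ∈ e ⁻¹ᵁ W) (s : Γ(L, W)) := GrTwist.val (V := e ⁻¹ᵁ W) (φ.app W s) ⟨y, hy⟩
  have hres : ∀ {W W' : P.Opens} (h : W' ≤ W) (hy : y ∈ e ⁻¹ᵁ W') (s : Γ(L, W)),
      v W' hy (res L h s) = v W (h hy) s := fun {W W'} h hy s => by
    refine (congrArg (fun q => GrTwist.val (V := e ⁻¹ᵁ W') q ⟨y, hy⟩) (app_res φ h s)).trans ?_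
    exact EGAProj74.val_mres_pushforward e h _ ⟨y, hy⟩
  have hwell : ∀ {W W' : P.Opens} (hW : z ∈ W) (hW' : z ∈ W') (s : Γ(L, W)) (s' : Γ(L, W')),
      germM L W z hW s = germM L W' z hW' s' → v W hW s = v W' hW' s' := fun hW hW' s s' h => by
    obtain ⟨V, hV, i₁, i₂, e₁⟩ := TopCat.Presheaf.germ_eq L.presheaf z hW hW' s s' h
    rw [← hres i₁.le hV s, ← hres i₂.le hV s']
    exact congrArg (v V hV) e₁
  choose Wc hWc sc hsc using fun m : L.presheaf.stalk z => germM_exist m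
  have hΦgerm : ∀ {W : P.Opens} (hW : z ∈ W) (s : Γ(L, W)),
      v (Wc (germM L W z hW s)) (hWc _) (sc (germM L W z hW s)) = v W hW s :=
    fun hW s => hwell (hWc _) hW _ s (hsc _)
  let Φ : L.presheaf.stalk z →+ GrTwist.Loc (𝒜.deg U hU) y :=
    AddMonoidHom.mk' (fun m => v (Wc m) (hWc m) (sc m)) fun a b => by
      obtain ⟨W₁, h₁, s₁, rfl⟩ := germM_exist a
      obtain ⟨W₂, h₂, s₂, rfl⟩ := germM_exist b
      have hi : z ∈ W₁ ⊓ W₂ := ⟨h₁, h₂⟩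
      rw [← germM_res (inf_le_left : W₁ ⊓ W₂ ≤ W₁) hi s₁, ← germM_res (inf_le_right : W₁ ⊓ W₂ ≤ W₂) hi s₂,
        ← germM_add, hΦgerm hi, hΦgerm hi, hΦgerm hi]
      show GrTwist.val (V := e ⁻¹ᵁ (W₁ ⊓ W₂)) (φ.app (W₁ ⊓ W₂) (_ + _)) ⟨y, hi⟩ = _
      rw [map_add]
      rfl
  letI := (S.presheaf.germ U (p z) hz).hom.toAlgebra
  letI := FlatMod.moduleStalkOver p L z
  letI : Module Γ(S, U) (L.presheaf.stalk z) := Module.compHom _ (baseGerm p U z hz)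
  haveI : IsScalarTower Γ(S, U) (S.presheaf.stalk (p z)) (L.presheaf.stalk z) :=
    IsScalarTower.of_algebraMap_smul fun r m => by
      show p.stalkMap z (S.presheaf.germ U (p z) hz r) • m = baseGerm p U z hz r • m
      rw [baseGerm_eq]
  haveI := isLocalization_stalk (⟨U, hU⟩ : S.affineOpens) (p z) hz
  haveI := primeAt_isPrime (⟨U, hU⟩ : S.affineOpens) (p z) hz
  letI := (𝒜.str.app (op U)).hom.toAlgebra
  refine (Module.flat_iff_of_isLocalization (R := Γ(S, U)) (S.presheaf.stalk (p z))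
    (primeAt (⟨U, hU⟩ : S.affineOpens) (p z) hz).primeCompl _).2 ?_
  refine flat_of_fractions (𝒜.deg U hU) (fun r => 𝒜.str_mem U hU r) d₀ hflat y n Φ ?_ ?_ ?_ ?_
  · refine (injective_iff_map_eq_zero _).2 fun m hm => ?_
    obtain ⟨W, hW, s, rfl⟩ := germM_exist m
    have hm' : v W hW s = 0 := (hΦgerm hW s).symm.trans hm
    obtain ⟨V, hyV, hVW, hV⟩ := exists_zero_nhd (φ.app W s : Γ(N, e ⁻¹ᵁ W)) ⟨y, hW⟩ hm'
    have hle : e ''ᵁ V ≤ W := by
      rintro _ ⟨w, hw, rfl⟩; exact hVW hw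
    have hleU : e ''ᵁ V ≤ p ⁻¹ᵁ U := by
      rintro _ ⟨w, -, rfl⟩; exact emb_mem U hU w
    have hz' : z ∈ e ''ᵁ V := ⟨y, hyV, rfl⟩
    rw [← germM_res hle hz' s]
    suffices res L hle s = 0 by rw [this, germM_zero]
    refine (hL.bijective U hU _ hleU).1 (((app_res φ hle s).trans ?_).trans (map_zero (φ.app (e ''ᵁ V)).hom).symm)
    refine sect_eq_zero (V := e ⁻¹ᵁ (e ''ᵁ V)) _ fun w => ?_
    refine (EGAProj74.val_mres_pushforward e hle _ w).trans (hV _ ?_)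
    obtain ⟨w', hw', hww⟩ := w.2
    rwa [e.isOpenEmbedding.injective hww] at hw'
  · intro r m
    obtain ⟨W, hW, s, rfl⟩ := germM_exist m
    have hi : z ∈ W ⊓ p ⁻¹ᵁ U := ⟨hW, hz⟩
    have hsmul : r • germM L W z hW s = germM L (W ⊓ p ⁻¹ᵁ U) z hi
        (resO P (inf_le_right : W ⊓ p ⁻¹ᵁ U ≤ p ⁻¹ᵁ U) (p.app U r) • res L (inf_le_left : W ⊓ p ⁻¹ᵁ U ≤ W) s) := by
      rw [germM_smul, germ_resO, germM_res]
      rfl
    show v _ _ (sc (r • germM L W z hW s)) = _ * v _ _ (sc (germM L W z hW s))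
    rw [hsmul, hΦgerm hi, hΦgerm hW, ← hres inf_le_left hi s]
    refine (congrArg (fun q => GrTwist.val (V := e ⁻¹ᵁ (W ⊓ p ⁻¹ᵁ U)) q ⟨y, hi⟩)
      (Scheme.Modules.Hom.app_smul φ _ _)).trans ?_
    refine (val_smul (V := e ⁻¹ᵁ (W ⊓ p ⁻¹ᵁ U)) (e.app (W ⊓ p ⁻¹ᵁ U) (resO P inf_le_right (p.app U r)))
      (φ.app (W ⊓ p ⁻¹ᵁ U) (res L inf_le_left s)) ⟨y, hi⟩).trans ?_
    exact congrArg₂ (· * ·) ((emb_app_val hP U hU r inf_le_right y hi).trans (Localization.mk_one_eq_algebraMap _)) rfl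
  · intro m
    obtain ⟨W, hW, s, rfl⟩ := germM_exist m
    obtain ⟨i, j, a, t, ht, hij, hval⟩ := val_eq_frac (φ.app W s : Γ(N, e ⁻¹ᵁ W)) ⟨y, hW⟩
    exact ⟨i, j, a, t, ht, hij, (hΦgerm hW s).trans hval⟩
  · intro i j a t ht hij
    let B := Proj.basicOpen (𝒜.deg U hU) (t : 𝒜.presheaf.obj (op U))
    have hleU : e ''ᵁ B ≤ p ⁻¹ᵁ U := by
      rintro _ ⟨w, -, rfl⟩; exact emb_mem U hU w
    obtain ⟨q, hq⟩ := exists_frac_section (n := n) a t hij (V := e ⁻¹ᵁ (e ''ᵁ B)) fun w => by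
      obtain ⟨w', hw', hww⟩ := w.2
      rwa [e.isOpenEmbedding.injective hww] at hw'
    obtain ⟨s, hs⟩ := (hL.bijective U hU _ hleU).2 q
    have hz' : z ∈ e ''ᵁ B := ⟨y, ht, rfl⟩
    refine ⟨germM L (e ''ᵁ B) z hz' s, (hΦgerm hz' s).trans ?_⟩
    exact (congrArg (fun q => GrTwist.val (V := e ⁻¹ᵁ (e ''ᵁ B)) q ⟨y, hz'⟩) hs).trans (hq ⟨y, hz'⟩)

theorem flat_stalkMap (hP : RelProj.IsRelProj 𝒜 p chart) (U : S.Opens) (hU : IsAffineOpen U) (d₀ : ℕ)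
    (hflat : ∀ d, d₀ ≤ d →
      letI := (𝒜.str.app (op U)).hom.toAlgebra
      Module.Flat Γ(S, U) ↥(Submodule.span Γ(S, U) (𝒜.deg U hU d : Set (𝒜.presheaf.obj (op U)))))
    (y : Proj (𝒜.deg U hU)) : (p.stalkMap (RelProj.emb p chart U hU y)).hom.Flat := by
  classical
  let e := RelProj.emb p chart U hU
  let z := e y
  have hz : z ∈ p ⁻¹ᵁ U := emb_mem U hU y
  let ι : P.presheaf.stalk z →+* GrTwist.A0 (𝒜.deg U hU) y :=
    (AlgebraicGeometry.Proj.stalkIso' (𝒜.deg U hU) y).toRingHom.comp (e.stalkMap y).hom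
  have hι : Function.Bijective ι :=
    (AlgebraicGeometry.Proj.stalkIso' (𝒜.deg U hU) y).bijective.comp (ConcreteCategory.bijective_of_isIso (e.stalkMap y))
  let Φ : P.presheaf.stalk z →+ GrTwist.Loc (𝒜.deg U hU) y :=
    (algebraMap (GrTwist.A0 (𝒜.deg U hU) y) (GrTwist.Loc (𝒜.deg U hU) y)).toAddMonoidHom.comp ι.toAddMonoidHom
  letI := (S.presheaf.germ U (p z) hz).hom.toAlgebra
  letI : Algebra (S.presheaf.stalk (p z)) (P.presheaf.stalk z) := (p.stalkMap z).hom.toAlgebra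
  letI : Algebra Γ(S, U) (P.presheaf.stalk z) := (baseGerm p U z hz).toAlgebra
  haveI : IsScalarTower Γ(S, U) (S.presheaf.stalk (p z)) (P.presheaf.stalk z) :=
    IsScalarTower.of_algebraMap_eq fun r => baseGerm_eq U z hz r
  haveI := isLocalization_stalk (⟨U, hU⟩ : S.affineOpens) (p z) hz
  haveI := primeAt_isPrime (⟨U, hU⟩ : S.affineOpens) (p z) hz
  letI := (𝒜.str.app (op U)).hom.toAlgebra
  show Module.Flat (S.presheaf.stalk (p z)) (P.presheaf.stalk z)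
  refine (Module.flat_iff_of_isLocalization (R := Γ(S, U)) (S.presheaf.stalk (p z))
    (primeAt (⟨U, hU⟩ : S.affineOpens) (p z) hz).primeCompl _).2 ?_
  refine flat_of_fractions (𝒜.deg U hU) (fun r => 𝒜.str_mem U hU r) d₀ hflat y 0 Φ ?_ ?_ ?_ ?_
  · exact (HomogeneousLocalization.val_injective _).comp hι.1
  · intro r m
    show (ι (baseGerm p U z hz r * m)).val = _ * (ι m).val
    rw [map_mul, HomogeneousLocalization.val_mul]
    congr 1
    show ((AlgebraicGeometry.Proj.stalkIso' (𝒜.deg U hU) y) (e.stalkMap y (P.presheaf.germ (p ⁻¹ᵁ U) z hz (p.app U r)))).val = _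
    rw [Scheme.Hom.germ_stalkMap_apply]
    erw [AlgebraicGeometry.Proj.stalkIso'_germ]
    exact (EGAProj74.emb_app_p_val hP U hU r y hz).trans (Localization.mk_one_eq_algebraMap _)
  · intro m
    obtain ⟨c, hc⟩ := HomogeneousLocalization.mk_surjective (ι m)
    refine ⟨c.deg, c.deg, c.num, c.den, c.den_mem, by simp, ?_⟩
    show (ι m).val = _
    rw [← hc, HomogeneousLocalization.val_mk]
  · intro i j a t ht hij
    obtain rfl : i = j := by omega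
    obtain ⟨m, hm⟩ := hι.2 (HomogeneousLocalization.mk ⟨i, a, t, ht⟩)
    refine ⟨m, ?_⟩
    show (ι m).val = _
    rw [hm, HomogeneousLocalization.val_mk]

end Groth.Agent.Div89.ProjFlat
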